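import Cfsg.Agent.Lib.Perm.SolvBase.Rigid

/-!
# A solvable permutation group has a colouring by five colours with trivial stabilizer
-/

namespace CfsgLib.Perm.SolvBase

universe u

/-- A colouring by five colours whose stabilizer acts trivially. -/
def HasColour (G α : Type*) [Group G] [MulAction G α] : Prop :=
  ∃ c : α → Fin 5, ∀ g : G, (∀ x, c (g • x) = c x) → ∀ x : α, g • x = x

/-- From one such colouring we get five in different orbits. -/
theorem five_colourings {G α : Type*} [Group G] [Group.IsSolvable G] [MulAction G α] [Nonempty α]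
    (h : HasColour G α) :
    ∃ P : Fin 5 → α → Fin 5, ∀ (g : G) (i j : Fin 5), (∀ x, P j (g • x) = P i x) →
      i = j ∧ ∀ x : α, g • x = x := by
  classical
  obtain ⟨c, hc⟩ := h
  let Y : Subgroup (Equiv.Perm (Fin 5)) :=
    { carrier := {π | ∃ g : G, ∀ x, c (g • x) = π (c x)}
      one_mem' := ⟨1, fun x => by rw [one_smul]; rfl⟩
      mul_mem' := fun {a b} ⟨g, hg⟩ ⟨k, hk⟩ => ⟨g * k, fun x => by
        rw [mul_smul, hg, hk]; rfl⟩
      inv_mem' := fun {a} ⟨g, hg⟩ => ⟨g⁻¹, fun x => by
        rw [Equiv.Perm.eq_inv_iff_eq, ← hg, smul_inv_smul]⟩ }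
  have hindex : 5 ≤ Y.index := by
    by_contra hlt
    set A := alternatingGroup (Fin 5) with hA
    have hle : A ≤ Y := by
      haveI hAs : IsSimpleGroup A := alternatingGroup.isSimpleGroup_five
      let f : A →* Equiv.Perm (Equiv.Perm (Fin 5) ⧸ Y) :=
        (MulAction.toPermHom (Equiv.Perm (Fin 5)) (Equiv.Perm (Fin 5) ⧸ Y)).comp A.subtype
      rcases hAs.eq_bot_or_eq_top_of_normal f.ker inferInstance with h0 | h0
      · exfalso
        have h60 : Nat.card A = 60 := by
          rw [hA, nat_card_alternatingGroup, Nat.card_eq_fintype_card, Fintype.card_fin]; rfl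
        have hcard := Nat.card_le_card_of_injective f ((MonoidHom.ker_eq_bot_iff f).1 h0)
        rw [Nat.card_perm, h60] at hcard
        have : Y.index ≤ 4 := by omega
        have h24 : (Nat.card (Equiv.Perm (Fin 5) ⧸ Y)).factorial ≤ (4 : ℕ).factorial :=
          Nat.factorial_le this
        have : (4 : ℕ).factorial = 24 := rfl
        omega
      · intro a ha
        have h1 : (⟨a, ha⟩ : A) ∈ f.ker := by rw [h0]; trivial
        rw [MonoidHom.mem_ker] at h1
        have h2 := DFunLike.congr_fun h1 ((1 : Equiv.Perm (Fin 5)) : Equiv.Perm (Fin 5) ⧸ Y)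
        change ((a * 1 : Equiv.Perm (Fin 5)) : Equiv.Perm (Fin 5) ⧸ Y) = ((1 : Equiv.Perm (Fin 5))) at h2
        rw [mul_one, QuotientGroup.eq, mul_one] at h2
        exact inv_mem_iff.1 h2
    -- the alternating group would act on the colours through a solvable group
    let H : Subgroup G :=
      { carrier := {g | ∃ π ∈ A, ∀ x, c (g • x) = π (c x)}
        one_mem' := ⟨1, A.one_mem, fun x => by rw [one_smul]; rfl⟩
        mul_mem' := fun {a b} ⟨p, hp, hp'⟩ ⟨q, hq, hq'⟩ =>
          ⟨p * q, A.mul_mem hp hq, fun x => by rw [mul_smul, hp', hq']; rfl⟩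
        inv_mem' := fun {a} ⟨p, hp, hp'⟩ => ⟨p⁻¹, A.inv_mem hp, fun x => by
          rw [Equiv.Perm.eq_inv_iff_eq, ← hp', smul_inv_smul]⟩ }
    choose g hg using fun a : A => (hle a.2 : ∃ g : G, ∀ x, c (g • x) = (a : Equiv.Perm _) (c x))
    let Φ : A →* Equiv.Perm α :=
      { toFun := fun a => MulAction.toPerm (g a)
        map_one' := Equiv.ext fun x => hc _ (fun y => hg 1 y) x
        map_mul' := fun a b => Equiv.ext fun x => by
          show g (a * b) • x = g a • g b • x
          have := hc ((g a * g b)⁻¹ * g (a * b)) (fun y => by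
            have e1 : ∀ z, c ((g a * g b) • z) = (a * b : A).1 (c z) := fun z => by
              rw [mul_smul, hg, hg]; rfl
            have e2 := e1 (((g a * g b)⁻¹ * g (a * b)) • y)
            rw [smul_smul, mul_inv_cancel_left, hg] at e2
            exact ((a * b : A).1.injective e2).symm) x
          rw [mul_smul, inv_smul_eq_iff, mul_smul] at this
          exact this }
    haveI hAs : IsSimpleGroup A := alternatingGroup.isSimpleGroup_five
    rcases hAs.eq_bot_or_eq_top_of_normal Φ.ker inferInstance with h0 | h0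
    · -- then the alternating group is solvable
      have hsol : Group.IsSolvable A := by
        let R := (MulAction.toPermHom G α).range
        haveI : Group.IsSolvable R :=
          Group.isSolvable_of_surjective (MulAction.toPermHom G α).rangeRestrict_surjective
        let Φ' : A →* R := Φ.codRestrict R fun a => ⟨g a, rfl⟩
        refine solvable_of_solvable_injective (f := Φ') fun a b hab => ?_
        exact (MonoidHom.ker_eq_bot_iff Φ).1 h0 (congrArg Subtype.val hab)
      refine Equiv.Perm.not_isSolvable_fin_5 (Group.isSolvable_of_ker_le_range A.subtype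
        (Equiv.Perm.sign : Equiv.Perm (Fin 5) →* ℤˣ) ?_)
      intro a ha
      exact ⟨⟨a, ha⟩, rfl⟩
    · obtain ⟨x⟩ := ‹Nonempty α›
      obtain ⟨a, ha, hmove⟩ : ∃ a ∈ A, a (c x) ≠ c x := by
        have : ∀ i : Fin 5, ∃ j k : Fin 5, j ≠ i ∧ k ≠ i ∧ j ≠ k := by decide
        obtain ⟨j, k, hj, hk, hjk⟩ := this (c x)
        refine ⟨Equiv.swap (c x) j * Equiv.swap (c x) k, ?_, ?_⟩
        · rw [hA, Equiv.Perm.mem_alternatingGroup, map_mul, Equiv.Perm.sign_swap hj.symm,
            Equiv.Perm.sign_swap hk.symm]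
          rfl
        · rw [Equiv.Perm.mul_apply, Equiv.swap_apply_left, Equiv.swap_apply_of_ne_of_ne hk hjk.symm]
          exact hk
      have h1 : (⟨a, ha⟩ : A) ∈ Φ.ker := by rw [h0]; trivial
      have h2 : g ⟨a, ha⟩ • x = x := DFunLike.congr_fun h1 x
      exact hmove (by rw [← hg ⟨a, ha⟩ x, h2])
  have hidx : 5 ≤ Nat.card (Equiv.Perm (Fin 5) ⧸ Y) := hindex
  haveI : Fintype (Equiv.Perm (Fin 5) ⧸ Y) := Fintype.ofFinite _
  obtain ⟨e⟩ : Nonempty (Fin 5 ↪ Equiv.Perm (Fin 5) ⧸ Y) :=
    Function.Embedding.nonempty_of_card_le (by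
      rw [Fintype.card_fin, ← Nat.card_eq_fintype_card]; exact hidx)
  refine ⟨fun i x => (e i).out (c x), fun g i j hg => ?_⟩
  have hmem : (e j).out⁻¹ * (e i).out ∈ Y := ⟨g, fun x => by
    rw [Equiv.Perm.mul_apply, Equiv.Perm.eq_inv_iff_eq]
    exact hg x⟩
  have hij : i = j := e.injective (by
    rw [← Quotient.out_eq (e i), ← Quotient.out_eq (e j)]
    exact (QuotientGroup.eq.2 hmem).symm)
  subst hij
  exact ⟨rfl, hc g fun x => (e i).out.injective (hg x)⟩

/-- Every solvable permutation group has such a colouring. -/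
theorem exists_colour : ∀ (n : ℕ) (G α : Type u) [Group G] [Group.IsSolvable G] [Finite α]
    [MulAction G α], Nat.card α = n → HasColour G α := by
  intro n
  induction n using Nat.strong_induction_on with
  | _ n ih =>
  intro G α _ _ _ _ hn
  classical
  subst hn
  rcases isEmpty_or_nonempty α with hα | ⟨⟨x0⟩⟩
  · exact ⟨fun _ => 0, fun g _ x => (IsEmpty.false x).elim⟩
  by_cases htr : ∀ y : α, ∃ g : G, g • x0 = y
  swap
  · -- two invariant parts
    simp only [not_forall, not_exists] at htr
    obtain ⟨y0, hy0⟩ := htr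
    set O := MulAction.orbit G x0 with hO
    have hOinv : ∀ (g : G), ∀ x ∈ O, g • x ∈ O := by
      rintro g x ⟨k, rfl⟩
      exact ⟨g * k, mul_smul g k x0⟩
    have hOc : ∀ (g : G), ∀ x ∈ Oᶜ, g • x ∈ Oᶜ := fun g x hx hgx =>
      hx (by simpa using hOinv g⁻¹ _ hgx)
    have hlt : ∀ P : Set α, ∀ z, z ∉ P → Nat.card P < Nat.card α := fun P z hz => by
      rw [Nat.card_coe_set_eq, ← Set.ncard_univ]
      exact Set.ncard_lt_ncard (Set.ssubset_univ_iff.2 fun e => hz (e ▸ trivial)) (Set.toFinite _)
    letI a1 : MulAction G O :=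
      { smul := fun g x => ⟨g • (x : α), hOinv g _ x.2⟩
        one_smul := fun x => Subtype.ext (one_smul G (x : α))
        mul_smul := fun g h x => Subtype.ext (mul_smul g h (x : α)) }
    letI a2 : MulAction G ↥Oᶜ :=
      { smul := fun g x => ⟨g • (x : α), hOc g _ x.2⟩
        one_smul := fun x => Subtype.ext (one_smul G (x : α))
        mul_smul := fun g h x => Subtype.ext (mul_smul g h (x : α)) }
    obtain ⟨c1, h1⟩ := ih _ (hlt O y0 fun ⟨g, hg⟩ => hy0 g hg) G O rfl
    obtain ⟨c2, h2⟩ := ih _ (hlt Oᶜ x0 fun h => h (MulAction.mem_orbit_self x0)) G ↥Oᶜ rfl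
    refine ⟨fun x => if h : x ∈ O then c1 ⟨x, h⟩ else c2 ⟨x, h⟩, fun g hg x => ?_⟩
    have k1 := h1 g fun z => by
      have := hg z.1
      simp only [dif_pos (hOinv g _ z.2), dif_pos z.2] at this
      exact this
    have k2 := h2 g fun z => by
      have := hg z.1
      simp only [dif_neg (show g • (z : α) ∉ O from hOc g _ z.2), dif_neg (show (z : α) ∉ O from z.2)] at this
      exact this
    by_cases hx : x ∈ O
    · exact congrArg Subtype.val (k1 ⟨x, hx⟩)
    · exact congrArg Subtype.val (k2 ⟨x, hx⟩)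
  -- the image is faithful
  let φ := MulAction.toPermHom G α
  haveI : Group.IsSolvable φ.range := Group.isSolvable_of_surjective φ.rangeRestrict_surjective
  suffices h : HasColour φ.range α by
    obtain ⟨c, hc⟩ := h
    exact ⟨c, fun g hg x => hc ⟨φ g, g, rfl⟩ hg x⟩
  haveI : MulAction.IsPretransitive φ.range α := ⟨fun a b => by
    obtain ⟨g, rfl⟩ := htr a
    obtain ⟨k, rfl⟩ := htr b
    exact ⟨⟨φ (k * g⁻¹), _, rfl⟩, by
      show (k * g⁻¹) • g • x0 = k • x0
      rw [smul_smul, inv_mul_cancel_right]⟩⟩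
  set R := φ.range
  rcases subsingleton_or_nontrivial R with hR | hR
  · exact ⟨fun _ => 0, fun g _ x => by rw [Subsingleton.elim g 1, one_smul]⟩
  have hex : ∃ A : Subgroup R, A.Normal ∧ A ≠ ⊥ ∧ ∀ a ∈ A, ∀ b ∈ A, a * b = b * a := by
    obtain ⟨m, hm⟩ := Group.IsSolvable.solvable (G := R)
    by_contra hall
    push Not at hall
    have hall' : ∀ i, derivedSeries R i ≠ ⊥ := by
      intro i
      induction i with
      | zero => rw [derivedSeries_zero]; exact top_ne_bot
      | succ i hi =>
        intro h0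
        obtain ⟨a, ha, b, hb, hab⟩ := hall _ (derivedSeries_normal R i) hi
        refine hab (commutatorElement_eq_one_iff_mul_comm.1 ?_)
        rw [← Subgroup.mem_bot, ← h0, derivedSeries_succ]
        exact Subgroup.commutator_mem_commutator ha hb
    exact hall' m hm
  obtain ⟨A, hA⟩ := hex
  obtain ⟨N, ⟨hNn, hN0, hNab⟩, hmin⟩ := Set.exists_min_image
    {A : Subgroup R | A.Normal ∧ A ≠ ⊥ ∧ ∀ a ∈ A, ∀ b ∈ A, a * b = b * a}
    (fun A => Nat.card A) (Set.toFinite _) ⟨A, hA⟩
  haveI := hNn
  by_cases hNtr : ∀ x y : α, ∃ n ∈ N, n • x = y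
  · -- regular normal subgroup
    have hreg : ∀ n ∈ N, n • x0 = x0 → n = 1 := by
      intro n hn h
      refine FaithfulSMul.eq_of_smul_eq_smul (α := α) fun y => ?_
      obtain ⟨m, hm, rfl⟩ := hNtr x0 y
      rw [one_smul, ← mul_smul, hNab n hn m hm, mul_smul, h]
    letI : CommGroup N :=
      { (inferInstance : Group N) with mul_comm := fun a b => Subtype.ext (hNab a a.2 b b.2) }
    have hsf : ∀ r : ℕ, r.Prime → ∀ x : Additive N, r • (r • x) = 0 → r • x = 0 := by
      intro r hr x hx
      by_contra hne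
      let T : Subgroup R :=
        { carrier := {n | n ∈ N ∧ n ^ r = 1}
          one_mem' := ⟨N.one_mem, one_pow r⟩
          mul_mem' := fun {a b} ha hb => ⟨N.mul_mem ha.1 hb.1, by
            rw [Commute.mul_pow (hNab a ha.1 b hb.1), ha.2, hb.2, mul_one]⟩
          inv_mem' := fun {a} ha => ⟨N.inv_mem ha.1, by rw [inv_pow, ha.2, inv_one]⟩ }
      haveI hTn : T.Normal := ⟨fun n hn g => ⟨Subgroup.Normal.conj_mem hNn n hn.1 g, by
        rw [← MulAut.conj_apply, ← map_pow, hn.2, map_one]⟩⟩
      have hT0 : T ≠ ⊥ := fun e => hne (by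
        have h1 : ((Additive.toMul (r • x) : N) : R) ∈ T :=
          ⟨(Additive.toMul (r • x)).2, congrArg (fun z => ((Additive.toMul z : N) : R)) hx⟩
        rw [e, Subgroup.mem_bot] at h1
        exact Additive.toMul.injective (Subtype.ext h1))
      have hTN : T = N := Subgroup.eq_of_le_of_card_ge (fun n hn => hn.1)
        (hmin T ⟨hTn, hT0, fun a ha b hb => hNab a ha.1 b hb.1⟩)
      have h2 : ((Additive.toMul x : N) : R) ∈ T := by rw [hTN]; exact (Additive.toMul x).2
      exact hne (Additive.toMul.injective (Subtype.ext h2.2))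
    obtain ⟨c, hc⟩ := rigid_four hsf
    choose nn hnn hnx using fun y => hNtr x0 y
    refine ⟨fun y => if y = x0 then 4 else (c (Additive.ofMul ⟨nn y, hnn y⟩)).castSucc,
      fun g hg x => ?_⟩
    have hg0 : g • x0 = x0 := by
      by_contra hne
      have h := hg x0
      simp only [if_neg hne, if_true] at h
      exact absurd h (Fin.castSucc_lt_last _).ne
    let f : Additive N →+ Additive N :=
      { toFun := fun m => Additive.ofMul
          ⟨g * (Additive.toMul m : N) * g⁻¹,
            Subgroup.Normal.conj_mem hNn _ (Additive.toMul m).2 g⟩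
        map_zero' := Additive.toMul.injective (Subtype.ext (by
          show g * 1 * g⁻¹ = 1
          group))
        map_add' := fun a b => Additive.toMul.injective (Subtype.ext (by
          show g * ((Additive.toMul a : N) * (Additive.toMul b : N) : R) * g⁻¹ =
            (g * (Additive.toMul a : N) * g⁻¹) * (g * (Additive.toMul b : N) * g⁻¹)
          group)) }
    have hnn' : ∀ n (hn : n ∈ N), nn (n • x0) = n := fun n hn => by
      have h := hreg ((n)⁻¹ * nn (n • x0)) (N.mul_mem (N.inv_mem hn) (hnn _))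
        (by rw [mul_smul, hnx, inv_smul_smul])
      exact (inv_mul_eq_one.1 h).symm
    have hf : ∀ m, f m = m := by
      refine hc f (fun a b h => ?_) fun m hm => ?_
      · have h1 := congrArg (fun z => ((Additive.toMul z : N) : R)) h
        simp only [f, AddMonoidHom.coe_mk, ZeroHom.coe_mk, toMul_ofMul, mul_left_inj,
          mul_right_inj] at h1
        exact Additive.toMul.injective (Subtype.ext h1)
      · set n : R := ((Additive.toMul m : N) : R) with hn
        have hn1 : n • x0 ≠ x0 := fun e => hm (Additive.toMul.injective (Subtype.ext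
          (hreg n (Additive.toMul m).2 e)))
        have hgn : g • n • x0 = (g * n * g⁻¹) • x0 := by
          rw [mul_smul, mul_smul, inv_smul_eq_iff.2 hg0.symm]
        have hgn1 : g • n • x0 ≠ x0 := fun e => hn1 (MulAction.injective g (e.trans hg0.symm))
        have h := hg (n • x0)
        simp only [if_neg hgn1, if_neg hn1] at h
        have h' := Fin.castSucc_injective _ h
        rw [hgn] at h'
        convert h' using 3
        · exact Subtype.ext (hnn' _ (Subgroup.Normal.conj_mem hNn n (Additive.toMul m).2 g)).symm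
        · exact Subtype.ext (hnn' n (Additive.toMul m).2).symm
    obtain ⟨m, hm, rfl⟩ := hNtr x0 x
    have h1 : g * m * g⁻¹ = m :=
      congrArg (fun z => ((Additive.toMul z : N) : R)) (hf (Additive.ofMul ⟨m, hm⟩))
    calc g • m • x0 = (g * m * g⁻¹) • g • x0 := by
          rw [smul_smul, smul_smul]; congr 1; group
      _ = m • x0 := by rw [h1, hg0]
  -- blocks
  simp only [not_forall] at hNtr
  obtain ⟨a, b, hab⟩ := hNtr
  let s : Setoid α :=
    { r := fun a b => ∃ n ∈ N, n • a = b
      iseqv :=
        { refl := fun a => ⟨1, N.one_mem, one_smul R a⟩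
          symm := fun ⟨n, hn, e⟩ => ⟨n⁻¹, N.inv_mem hn, by rw [← e, inv_smul_smul]⟩
          trans := fun ⟨n, hn, e⟩ ⟨m, hm, f⟩ =>
            ⟨m * n, N.mul_mem hm hn, by rw [mul_smul, e, f]⟩ } }
  have hresp : ∀ (g : R) (a b : α), s a b → s (g • a) (g • b) := by
    rintro g a b ⟨n, hn, rfl⟩
    exact ⟨g * n * g⁻¹, Subgroup.Normal.conj_mem hNn n hn g, by
      rw [mul_smul, mul_smul, inv_smul_smul]⟩
  letI : MulAction R (Quotient s) :=
    { smul := fun g q => Quotient.map (fun a => g • a) (fun a b h => hresp g a b h) q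
      one_smul := fun q => Quotient.inductionOn q fun a => congrArg _ (one_smul R a)
      mul_smul := fun g k q => Quotient.inductionOn q fun a => congrArg _ (mul_smul g k a) }
  let π : α → Quotient s := Quotient.mk s
  have hπ : ∀ (g : R) (x : α), π (g • x) = g • π x := fun _ _ => rfl
  have hβlt : Nat.card (Quotient s) < Nat.card α := by
    refine lt_of_le_of_ne (Nat.card_le_card_of_surjective _ Quotient.mk_surjective) fun e => ?_
    obtain ⟨n, hn, hn1⟩ : ∃ n ∈ N, n ≠ 1 := (Subgroup.bot_or_exists_ne_one N).resolve_left hN0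
    refine hn1 (FaithfulSMul.eq_of_smul_eq_smul (α := α) fun z => ?_)
    rw [one_smul]
    exact (((Nat.bijective_iff_surjective_and_card _).2 ⟨Quotient.mk_surjective, e.symm⟩).1
      (Quotient.sound ⟨n, hn, rfl⟩ : π z = π (n • z))).symm
  let b0 := π x0
  have htq : ∀ q, ∃ g : R, g • b0 = q := fun q => by
    induction q using Quotient.inductionOn with
    | _ y =>
      obtain ⟨g, hg⟩ := MulAction.exists_smul_eq R x0 y
      exact ⟨g, by rw [← hπ, hg]⟩
  choose t ht using htq
  let F : Set α := {x | π x = b0}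
  letI aF : MulAction (MulAction.stabilizer R b0) F :=
    { smul := fun g x => ⟨(g : R) • (x : α), by
        show π _ = b0
        rw [hπ, x.2]; exact g.2⟩
      one_smul := fun x => Subtype.ext (one_smul R (x : α))
      mul_smul := fun g h x => Subtype.ext (mul_smul (g : R) (h : R) (x : α)) }
  haveI : Nonempty F := ⟨⟨x0, rfl⟩⟩
  have hFlt : Nat.card F < Nat.card α := by
    rw [Nat.card_coe_set_eq, ← Set.ncard_univ]
    refine Set.ncard_lt_ncard (Set.ssubset_univ_iff.2 fun e => hab ?_) (Set.toFinite _)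
    have ha : π a = b0 := (show a ∈ F by rw [e]; trivial)
    have hb : π b = b0 := (show b ∈ F by rw [e]; trivial)
    exact Quotient.exact (ha.trans hb.symm)
  haveI : Group.IsSolvable (MulAction.stabilizer R b0) :=
    solvable_of_solvable_injective (f := (MulAction.stabilizer R b0).subtype) Subtype.val_injective
  obtain ⟨P, hP⟩ := five_colourings (ih _ hFlt (MulAction.stabilizer R b0) F rfl)
  obtain ⟨T, hT⟩ := ih _ hβlt R (Quotient s) rfl
  refine ⟨fun x => P (T (π x)) ⟨(t (π x))⁻¹ • x, by
    show π _ = b0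
    rw [hπ, inv_smul_eq_iff, ht]⟩, fun g hg x => ?_⟩
  have hs : ∀ q, (t (g • q))⁻¹ * g * t q ∈ MulAction.stabilizer R b0 := fun q => by
    rw [MulAction.mem_stabilizer_iff, mul_smul, mul_smul, ht, inv_smul_eq_iff, ht]
  have hblock : ∀ q, T q = T (g • q) ∧ ∀ y : F, (⟨_, hs q⟩ : MulAction.stabilizer R b0) • y = y := by
    intro q
    refine hP _ _ _ fun y => ?_
    have h1 : π (t q • (y : α)) = q := by rw [hπ, show π (y : α) = b0 from y.2, ht]
    have h := hg (t q • (y : α))
    convert h using 2
    · rw [hπ, h1]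
    · apply Subtype.ext
      show ((t (g • q))⁻¹ * g * t q) • (y : α) = (t (π (g • t q • (y : α))))⁻¹ • g • t q • (y : α)
      rw [mul_smul, mul_smul, hπ, h1]
    · rw [h1]
    · apply Subtype.ext
      show (y : α) = (t (π (t q • (y : α))))⁻¹ • t q • (y : α)
      rw [h1, inv_smul_smul]
  have hfix : ∀ q : Quotient s, g • q = q := hT g fun q => ((hblock q).1).symm
  set q := π x with hq
  have h := congrArg Subtype.val ((hblock q).2 ⟨(t q)⁻¹ • x, by
    show π _ = b0
    rw [hπ, ← hq, inv_smul_eq_iff, ht]⟩)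
  change ((t (g • q))⁻¹ * g * t q) • ((t q)⁻¹ • x) = (t q)⁻¹ • x at h
  rw [hfix q, mul_smul, mul_smul, smul_inv_smul] at h
  exact MulAction.injective _ h

end CfsgLib.Perm.SolvBase
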