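import Mathlib

/-!
# Rigid colourings of abelian groups of squarefree exponent with four colours
-/

namespace CfsgLib.Perm.SolvBase

theorem rigid_four_prime {X : Type*} [AddCommGroup X] [Finite X] (r : ℕ) [Fact r.Prime]
    (hr : ∀ x : X, r • x = 0) :
    ∃ c : X → Fin 4, ∀ g : X →+ X, Function.Injective g → (∀ x, x ≠ 0 → c (g x) = c x) →
      ∀ x, g x = x := by
  classical
  letI : Module (ZMod r) X := AddCommGroup.zmodModule (n := r) hr
  haveI : Module.Finite (ZMod r) X := Module.Finite.of_finite
  set n := Module.finrank (ZMod r) X with hn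
  let b : Module.Basis (Fin n) (ZMod r) X := Module.finBasis (ZMod r) X
  have edge_eq : ∀ i k l m : Fin n, i ≠ k → l ≠ m → b i + b k = b l + b m →
      (i = l ∧ k = m) ∨ (i = m ∧ k = l) := by
    intro i k l m hik hlm h
    have hi := congrArg (fun v => b.repr v i) h
    have hk := congrArg (fun v => b.repr v k) h
    simp only [map_add, Finsupp.add_apply, Module.Basis.repr_self, Finsupp.single_apply,
      if_true, if_neg (Ne.symm hik), if_neg hik, add_zero, zero_add] at hi hk
    by_cases h1 : l = i
    · refine Or.inl ⟨h1.symm, ?_⟩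
      have : l ≠ k := fun e => hik (h1.symm.trans e)
      rw [if_neg this, zero_add] at hk
      by_contra hne
      rw [if_neg (Ne.symm hne)] at hk
      exact one_ne_zero hk
    · refine Or.inr ?_
      rw [if_neg h1, zero_add] at hi
      have h2 : m = i := by
        by_contra hne
        rw [if_neg hne] at hi
        exact one_ne_zero hi
      refine ⟨h2.symm, ?_⟩
      have : m ≠ k := fun e => hik (h2.symm.trans e)
      rw [if_neg this, add_zero] at hk
      by_contra hne
      rw [if_neg (Ne.symm hne)] at hk
      exact one_ne_zero hk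
  have edge_ne : ∀ i k l : Fin n, i ≠ k → b i + b k ≠ b l := by
    intro i k l hik h
    have hi := congrArg (fun v => b.repr v i) h
    have hk := congrArg (fun v => b.repr v k) h
    simp only [map_add, Finsupp.add_apply, Module.Basis.repr_self, Finsupp.single_apply,
      if_true, if_neg (Ne.symm hik), if_neg hik, add_zero, zero_add] at hi hk
    by_cases h1 : l = i
    · rw [if_neg (fun e => hik (h1.symm.trans e))] at hk
      exact one_ne_zero hk
    · rw [if_neg h1] at hi
      exact one_ne_zero hi
  let c : X → Fin 4 := fun x =>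
    if ∃ i : Fin n, (i : ℕ) = 0 ∧ x = b i then 0
    else if ∃ i : Fin n, x = b i then 1
    else if ∃ i j : Fin n, (j : ℕ) = i + 1 ∧ x = b i + b j then 2 else 3
  refine ⟨c, fun g hinj hg x => ?_⟩
  have hne : ∀ i, b i ≠ 0 := fun i => b.ne_zero i
  have hfix : ∀ k : ℕ, ∀ i : Fin n, (i : ℕ) = k → g (b i) = b i := by
    intro k
    induction k using Nat.strong_induction_on with
    | _ k ih =>
      intro i hi
      have h1 := hg (b i) (hne i)
      rcases Nat.eq_zero_or_pos k with hk | hk
      · have h2 : c (b i) = 0 := if_pos ⟨i, hi.trans hk, rfl⟩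
        rw [h2] at h1
        by_cases h3 : ∃ j : Fin n, (j : ℕ) = 0 ∧ g (b i) = b j
        · obtain ⟨j, hj, hgj⟩ := h3
          rw [hgj]
          exact congrArg b (Fin.ext (by omega))
        · simp only [c, if_neg h3] at h1
          split_ifs at h1 <;> simp at h1
      · let p : Fin n := ⟨k - 1, by omega⟩
        have hip : (i : ℕ) = (p : ℕ) + 1 := by simp only [p]; omega
        have hpi : p ≠ i := fun e => by rw [← e] at hip; omega
        have h2 : c (b i) = 1 := by
          simp only [c]
          rw [if_neg, if_pos ⟨i, rfl⟩]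
          rintro ⟨j, hj, he⟩
          have := b.injective he
          subst this
          omega
        rw [h2] at h1
        obtain ⟨j, hj⟩ : ∃ j, g (b i) = b j := by
          by_contra h3
          simp only [c, if_neg h3] at h1
          split_ifs at h1 <;> simp at h1
        have hgp : g (b p) = b p := ih (k - 1) (by omega) p rfl
        have hjp : p ≠ j := fun e => hpi (b.injective (hinj (by rw [hgp, hj, e])))
        have hpne : b p + b i ≠ 0 := fun h0 => by
          have := congrArg (fun v => b.repr v p) h0
          simp [hpi.symm] at this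
        have h4 := hg _ hpne
        rw [map_add, hgp, hj] at h4
        have h5 : c (b p + b i) = 2 := by
          simp only [c]
          rw [if_neg, if_neg, if_pos ⟨p, i, hip, rfl⟩]
          · rintro ⟨l, hl⟩; exact edge_ne p i l hpi hl
          · rintro ⟨l, -, hl⟩; exact edge_ne p i l hpi hl
        rw [h5] at h4
        obtain ⟨l, m, hlm, he⟩ : ∃ l m : Fin n, (m : ℕ) = l + 1 ∧ b p + b j = b l + b m := by
          by_contra h6
          simp only [c, if_neg h6] at h4
          split_ifs at h4 <;> simp at h4
        have hlm' : l ≠ m := fun e => by rw [e] at hlm; omega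
        rw [hj]
        rcases edge_eq p j l m hjp hlm' he with ⟨e1, e2⟩ | ⟨e1, e2⟩
        · subst e1 e2
          exact congrArg b (Fin.ext (by omega))
        · exfalso
          subst e1 e2
          have hgj : g (b j) = b j := ih (j : ℕ) (by omega) j rfl
          exact absurd (b.injective (hinj (hgj.trans hj.symm))) (fun e => by
            rw [e] at hlm; omega)
  have : (g.toZModLinearMap r) = LinearMap.id := b.ext fun i => hfix i i rfl
  exact DFunLike.congr_fun this x

/-- A finite abelian group of squarefree exponent has a colouring of its nonzero elements by four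
colours fixed by no nontrivial automorphism. -/
theorem rigid_four {X : Type*} [AddCommGroup X] [Finite X]
    (hsf : ∀ r : ℕ, r.Prime → ∀ x : X, r • (r • x) = 0 → r • x = 0) :
    ∃ c : X → Fin 4, ∀ g : X →+ X, Function.Injective g → (∀ x, x ≠ 0 → c (g x) = c x) →
      ∀ x, g x = x := by
  classical
  let T : ℕ → AddSubgroup X := fun r => (DistribMulAction.toAddMonoidHom X r).ker
  have hT : ∀ r x, x ∈ T r ↔ r • x = 0 := fun r x => Iff.rfl
  have hex : ∀ r : {r : ℕ // r.Prime}, ∃ c : T r.1 → Fin 4,
      ∀ g : T r.1 →+ T r.1, Function.Injective g → (∀ x, x ≠ 0 → c (g x) = c x) →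
        ∀ x, g x = x := fun r => by
    haveI := Fact.mk r.2
    exact rigid_four_prime r.1 fun x => Subtype.ext (by
      rw [AddSubgroup.coe_nsmul]; exact x.2)
  choose cr hcr using hex
  let c : X → Fin 4 := fun x =>
    if h : (addOrderOf x).Prime then
      cr ⟨addOrderOf x, h⟩ ⟨x, addOrderOf_nsmul_eq_zero x⟩ else 3
  refine ⟨c, fun g hinj hg => ?_⟩
  have hprime : ∀ r : ℕ, r.Prime → ∀ x ∈ T r, g x = x := by
    intro r hr x hx
    let g' : T r →+ T r :=
      { toFun := fun y => ⟨g y, by
          rw [hT, ← map_nsmul, (hT _ _).1 y.2, map_zero]⟩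
        map_zero' := Subtype.ext (map_zero g)
        map_add' := fun y z => Subtype.ext (map_add g _ _) }
    have hcval : ∀ y : T r, y ≠ 0 → c y = cr ⟨r, hr⟩ y := by
      intro y hy
      haveI := Fact.mk hr
      have ho : addOrderOf (y : X) = r :=
        addOrderOf_eq_prime ((hT _ _).1 y.2) fun e => hy (Subtype.ext e)
      have key : ∀ m (hm : m.Prime), addOrderOf (y : X) = m → ∀ z : T m, (z : X) = y →
          c y = cr ⟨m, hm⟩ z := by
        intro m hm e
        subst e
        intro z hz
        simp only [c, dif_pos hm]
        exact congrArg _ (Subtype.ext hz.symm)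
      exact key r hr ho y rfl
    refine congrArg Subtype.val (hcr ⟨r, hr⟩ g'
      (fun a b h => Subtype.ext (hinj (congrArg Subtype.val h))) (fun y hy => ?_) ⟨x, hx⟩)
    have hy' : g' y ≠ 0 := fun h => hy (Subtype.ext (hinj (by
      rw [AddSubgroup.coe_zero, map_zero]; exact congrArg Subtype.val h)))
    rw [← hcval y hy, ← hcval (g' y) hy']
    exact hg y fun e => hy (Subtype.ext e)
  have hall : ∀ n, ∀ x : X, addOrderOf x = n → g x = x := by
    intro n
    induction n using Nat.strong_induction_on with
    | _ n ih =>
      intro x hx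
      rcases eq_or_ne n 1 with h1 | h1
      · rw [h1, AddMonoid.addOrderOf_eq_one_iff] at hx
        rw [hx, map_zero]
      obtain ⟨r, hr, hrn⟩ := Nat.exists_prime_and_dvd h1
      obtain ⟨s, rfl⟩ := hrn
      have hpos : 0 < r * s := hx ▸ addOrderOf_pos x
      have hs : 0 < s := Nat.pos_of_mul_pos_left hpos
      have hcop : Nat.Coprime r s := by
        rw [hr.coprime_iff_not_dvd]
        rintro ⟨t, rfl⟩
        have h2 : r • (r • (t • x)) = 0 := by
          rw [smul_smul, smul_smul, mul_assoc, ← hx]; exact addOrderOf_nsmul_eq_zero x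
        have h3 := hsf r hr _ h2
        rw [smul_smul] at h3
        have := Nat.le_of_dvd hs (hx ▸ addOrderOf_dvd_of_nsmul_eq_zero h3)
        have h4 := hr.two_le
        nlinarith
      have e1 : g (s • x) = s • x := hprime r hr _ (by
        rw [hT, smul_smul, ← hx]; exact addOrderOf_nsmul_eq_zero x)
      have e2 : g (r • x) = r • x := by
        have ho : addOrderOf (r • x) = s := by
          rw [addOrderOf_nsmul, hx, Nat.gcd_eq_right (dvd_mul_right r s)]
          exact Nat.mul_div_cancel_left s hr.pos
        refine ih s ?_ _ ho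
        have := hr.two_le
        nlinarith
      have hbez := Nat.gcd_eq_gcd_ab r s
      rw [hcop] at hbez
      have hx' : x = Nat.gcdA r s • (r • x) + Nat.gcdB r s • (s • x) := by
        rw [← natCast_zsmul x r, ← natCast_zsmul x s, smul_smul, smul_smul, ← add_smul,
          mul_comm (Nat.gcdA r s), mul_comm (Nat.gcdB r s), ← hbez, Nat.cast_one, one_zsmul]
      rw [hx', map_add, map_zsmul, map_zsmul, e1, e2]
  exact fun x => hall _ x rfl

end CfsgLib.Perm.SolvBase
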