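import Cfsg.Agent.Lib.Perm.OddBase.Basic
import Cfsg.Agent.Lib.Recognition.Zassenhaus.Core

/-!
# Bases of size three: definitions, five triples in different orbits, reducible modules
-/

namespace CfsgLib.Perm.SolvBase

open CfsgLib.Perm.OddBase
open scoped MatrixGroups

universe u

/-- Three vectors whose common stabilizer acts trivially. -/
def HasTriple (G V : Type*) [Group G] [AddCommGroup V] [DistribMulAction G V] : Prop :=
  ∃ t : Fin 3 → V, ∀ g : G, (∀ i, g • t i = t i) → ∀ x : V, g • x = x

/-- The main statement for modules with fewer than `n` elements. -/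
def TripleBelow (n : ℕ) : Prop :=
  ∀ (G V : Type u) [Group G] [Group.IsSolvable G] [AddCommGroup V] [Finite V]
    [DistribMulAction G V], Nat.card V < n → IsCR G V → HasTriple G V

theorem elementary_of_irred {G V : Type*} [Group G] [AddCommGroup V] [Finite V] [Nontrivial V]
    [DistribMulAction G V] (hirr : IsIrred G V) : ∃ q : ℕ, q.Prime ∧ ∀ x : V, q • x = 0 := by
  obtain ⟨q, hq, hdvd⟩ := Nat.exists_prime_and_dvd
    (show Nat.card V ≠ 1 from (Finite.one_lt_card (α := V)).ne')
  haveI := Fact.mk hq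
  obtain ⟨x, hx⟩ := exists_prime_addOrderOf_dvd_card' q hdvd
  refine ⟨q, hq, ?_⟩
  have hU : Invariant G V (DistribMulAction.toAddMonoidHom V q).ker := fun g v hv => by
    change q • (g • v) = 0
    rw [← smul_comm g q v, show q • v = 0 from hv, smul_zero]
  rcases hirr _ hU with h | h
  · exfalso
    have : x ∈ (DistribMulAction.toAddMonoidHom V q).ker := by
      show q • x = 0
      rw [← hx]; exact addOrderOf_nsmul_eq_zero x
    rw [h, AddSubgroup.mem_bot] at this
    rw [this, addOrderOf_zero] at hx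
    exact hq.one_lt.ne hx
  · intro v
    exact (show v ∈ (DistribMulAction.toAddMonoidHom V q).ker by rw [h]; trivial)

section Transvections

variable (F : Type*) [Field F]

/-- A transvection as an element of the general linear group. -/
def elemGL (i j : Fin 3) (hij : i ≠ j) (c : F) : GL (Fin 3) F :=
  ⟨Matrix.transvection i j c, Matrix.transvection i j (-c),
    by rw [Matrix.transvection_mul_transvection_same _ _ hij, add_neg_cancel,
      Matrix.transvection_zero],
    by rw [Matrix.transvection_mul_transvection_same _ _ hij, neg_add_cancel,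
      Matrix.transvection_zero]⟩

theorem not_solvable_GL3 : ¬ Group.IsSolvable (GL (Fin 3) F) := by
  intro hsol
  have hcomm : ∀ i j k : Fin 3, ∀ (hij : i ≠ j) (hjk : j ≠ k) (hik : i ≠ k),
      elemGL F i j hij 1 * elemGL F j k hjk 1 * (elemGL F i j hij 1)⁻¹ * (elemGL F j k hjk 1)⁻¹ =
        elemGL F i k hik 1 := by
    intro i j k hij hjk hik
    apply Units.ext
    show Matrix.transvection i j (1 : F) * Matrix.transvection j k 1 *
      Matrix.transvection i j (-1) * Matrix.transvection j k (-1) = Matrix.transvection i k 1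
    ext a b
    fin_cases i <;> fin_cases j <;> fin_cases k <;>
      first
        | exact absurd rfl hij
        | exact absurd rfl hjk
        | exact absurd rfl hik
        | (fin_cases a <;> fin_cases b <;>
            simp [Matrix.transvection, Matrix.mul_apply, Fin.sum_univ_three, Matrix.single,
              Matrix.one_apply])
  have hmem : ∀ n, ∀ i k : Fin 3, ∀ hik : i ≠ k,
      elemGL F i k hik 1 ∈ derivedSeries (GL (Fin 3) F) n := by
    intro n
    induction n with
    | zero => intro i k hik; trivial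
    | succ n ih =>
      intro i k hik
      obtain ⟨j, hij, hjk⟩ : ∃ j : Fin 3, i ≠ j ∧ j ≠ k :=
        (by decide : ∀ i k : Fin 3, i ≠ k → ∃ j : Fin 3, i ≠ j ∧ j ≠ k) i k hik
      rw [derivedSeries_succ, ← hcomm i j k hij hjk hik]
      exact Subgroup.commutator_mem_commutator (ih i j hij) (ih j k hjk)
  obtain ⟨n, hn⟩ := Group.IsSolvable.solvable (G := GL (Fin 3) F)
  have h := hmem n 0 1 (by decide)
  rw [hn, Subgroup.mem_bot] at h
  have h2 : Matrix.transvection (0 : Fin 3) 1 (1 : F) = 1 := congrArg Units.val h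
  have h3 := congrFun (congrFun h2 0) 1
  simp [Matrix.transvection, Matrix.single] at h3

end Transvections

/-- From one triple with trivial stabilizer we get five in different orbits. -/
theorem five_triples {G V : Type*} [Group G] [Group.IsSolvable G] [AddCommGroup V] [Finite V]
    [Nontrivial V] [DistribMulAction G V] {q : ℕ} [Fact q.Prime] (hq : ∀ x : V, q • x = 0)
    (h : HasTriple G V) :
    ∃ P : Fin 5 → Fin 3 → V, ∀ (g : G) (i j : Fin 5), (∀ k, g • P i k = P j k) →
      i = j ∧ ∀ x : V, g • x = x := by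
  classical
  letI : Module (ZMod q) V := AddCommGroup.zmodModule (n := q) hq
  have hsmulc : ∀ (g : G) (c : ZMod q) (x : V), g • (c • x) = c • (g • x) := fun g c x =>
    ZMod.map_smul (DistribMulAction.toAddMonoidHom V g) c x
  by_cases hsingle : ∃ a : V, a ≠ 0 ∧ ∀ g : G, g • a = a → ∀ x : V, g • x = x
  · obtain ⟨a, ha, hk⟩ := hsingle
    refine ⟨![![a, 0, 0], ![0, a, 0], ![0, 0, a], ![a, a, 0], ![a, 0, a]], fun g i j hg => ?_⟩
    have hga : g • a ≠ 0 := fun e => ha ((smul_eq_zero_iff_eq g).1 e)
    have h0 := hg 0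
    have h1 := hg 1
    have h2 := hg 2
    fin_cases i <;> fin_cases j <;>
      simp [ha, Ne.symm ha, hga, Ne.symm hga] at h0 h1 h2 <;>
      refine ⟨rfl, hk g ?_⟩ <;> assumption
  push Not at hsingle
  by_cases hpair : HasPair G V
  · obtain ⟨a, b, hk⟩ := hpair
    have ha : a ≠ 0 := by
      rintro rfl
      by_cases hb : b = 0
      · subst hb
        obtain ⟨z, hz⟩ := exists_ne (0 : V)
        obtain ⟨g, -, x, hx⟩ := hsingle z hz
        exact hx (hk g (smul_zero g) (smul_zero g) x)
      · obtain ⟨g, hg, x, hx⟩ := hsingle b hb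
        exact hx (hk g (smul_zero g) hg x)
    have hb : b ≠ 0 := by
      rintro rfl
      obtain ⟨g, hg, x, hx⟩ := hsingle a ha
      exact hx (hk g hg (smul_zero g) x)
    have hab : a ≠ b := by
      rintro rfl
      obtain ⟨g, hg, x, hx⟩ := hsingle a ha
      exact hx (hk g hg hg x)
    refine ⟨![![a, b, 0], ![a, 0, b], ![0, a, b], ![a, b, a], ![a, b, b]], fun g i j hg => ?_⟩
    have hga : g • a ≠ 0 := fun e => ha ((smul_eq_zero_iff_eq g).1 e)
    have hgb : g • b ≠ 0 := fun e => hb ((smul_eq_zero_iff_eq g).1 e)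
    have hgab : g • a ≠ g • b := fun e => hab (MulAction.injective g e)
    have h0 := hg 0
    have h1 := hg 1
    have h2 := hg 2
    fin_cases i <;> fin_cases j <;>
      simp_all [Ne.symm ha, Ne.symm hb, Ne.symm hab] <;>
      exact hk g ‹_› ‹_›
  -- an independent triple
  obtain ⟨t, ht⟩ := h
  let T : Matrix (Fin 3) (Fin 3) (ZMod q) → Fin 3 → V := fun M i => ∑ j, M i j • t j
  have hT1 : T 1 = t := funext fun i => by simp [T, Matrix.one_apply]
  have hTmul : ∀ M N i, T (M * N) i = ∑ j, M i j • T N j := fun M N i => by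
    simp only [T, Matrix.mul_apply, Finset.sum_smul, Finset.smul_sum, smul_smul]
    exact Finset.sum_comm
  have hind : ∀ c : Fin 3 → ZMod q, ∑ j, c j • t j = 0 → ∀ j, c j = 0 := by
    intro c hc j0
    by_contra hne
    have hspan : t j0 = -((c j0)⁻¹ • ∑ j ∈ Finset.univ.erase j0, c j • t j) := by
      rw [← Finset.sum_erase_add _ _ (Finset.mem_univ j0)] at hc
      rw [eq_neg_of_add_eq_zero_left hc, smul_neg, smul_smul, inv_mul_cancel₀ hne, one_smul,
        neg_neg]
    apply hpair
    have hothers : ∀ j0 : Fin 3, ∃ j1 j2 : Fin 3, ∀ j, j = j0 ∨ j = j1 ∨ j = j2 := by decide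
    obtain ⟨j1, j2, hj⟩ := hothers j0
    refine ⟨t j1, t j2, fun g h1 h2 => ht g ?_⟩
    have hother : ∀ j, j ≠ j0 → g • t j = t j := fun j hjne => by
      rcases hj j with rfl | rfl | rfl
      · exact absurd rfl hjne
      · exact h1
      · exact h2
    intro i
    by_cases hi : i = j0
    · subst hi
      rw [hspan, smul_neg, hsmulc, Finset.smul_sum]
      refine congrArg Neg.neg (congrArg _ (Finset.sum_congr rfl fun j hjm => ?_))
      rw [hsmulc, hother j (Finset.ne_of_mem_erase hjm)]
    · exact hother i hi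
  have hTinj : Function.Injective T := fun M N h => by
    ext i j
    have h2 := congrFun h i
    refine sub_eq_zero.1 (hind (fun j => M i j - N i j) ?_ j)
    simp only [sub_smul, Finset.sum_sub_distrib]
    rw [sub_eq_zero]; exact h2
  have hTg : ∀ (g : G) (M : Matrix (Fin 3) (Fin 3) (ZMod q)) i,
      g • T M i = ∑ j, M i j • (g • t j) := fun g M i => by
    simp only [T, Finset.smul_sum, hsmulc]
  let GL3 := GL (Fin 3) (ZMod q)
  let Y : Subgroup GL3 :=
    { carrier := {M | ∃ g : G, ∀ i, g • t i = T M.1 i}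
      one_mem' := ⟨1, fun i => by rw [one_smul]; exact (congrFun hT1 i).symm⟩
      mul_mem' := fun {A B} ⟨g, hg⟩ ⟨k, hk⟩ => ⟨k * g, fun i => by
        rw [mul_smul, hg, hTg, Units.val_mul, hTmul]
        exact Finset.sum_congr rfl fun j _ => by rw [hk]⟩
      inv_mem' := fun {A} ⟨g, hg⟩ => ⟨g⁻¹, fun i => by
        rw [inv_smul_eq_iff, hTg]
        simp only [hg]
        rw [← hTmul, ← Units.val_mul, inv_mul_cancel, Units.val_one, hT1]⟩ }
  choose gY hgY using fun M : Y => M.2
  have huniq : ∀ g k : G, (∀ i, g • t i = k • t i) → ∀ x : V, g • x = k • x := fun g k h x => by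
    have := ht (k⁻¹ * g) (fun i => by rw [mul_smul, h, inv_smul_smul]) x
    rwa [mul_smul, inv_smul_eq_iff] at this
  let Φ : Y →* Equiv.Perm V :=
    { toFun := fun M => MulAction.toPerm (gY M⁻¹)
      map_one' := Equiv.ext fun x => by
        show gY 1⁻¹ • x = x
        rw [inv_one]
        exact ht _ (fun i => (hgY 1 i).trans (congrFun hT1 i)) x
      map_mul' := fun A B => Equiv.ext fun x => by
        show gY (A * B)⁻¹ • x = gY A⁻¹ • gY B⁻¹ • x
        rw [smul_smul]
        refine huniq _ _ (fun i => ?_) x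
        rw [mul_smul, hgY, hgY, hTg, mul_inv_rev]
        show T ((B⁻¹ : Y).1.1 * (A⁻¹ : Y).1.1) i = _
        rw [hTmul]
        exact Finset.sum_congr rfl fun j _ => by rw [hgY] }
  have hΦ : Function.Injective Φ := by
    rw [← MonoidHom.ker_eq_bot_iff, Subgroup.eq_bot_iff_forall]
    intro M hM
    have h1 : ∀ x, gY M⁻¹ • x = x := fun x => DFunLike.congr_fun hM x
    have h2 : T (M⁻¹ : Y).1.1 = t := funext fun i => (hgY M⁻¹ i).symm.trans (h1 _)
    rw [← hT1] at h2
    exact inv_eq_one.1 (Subtype.ext (Units.ext (hTinj h2)))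
  haveI hYs : Group.IsSolvable Y := by
    let R := (MulAction.toPermHom G V).range
    haveI : Group.IsSolvable R :=
      Group.isSolvable_of_surjective (MulAction.toPermHom G V).rangeRestrict_surjective
    exact solvable_of_solvable_injective (f := Φ.codRestrict R fun M => ⟨gY M⁻¹, rfl⟩)
      fun a b h => hΦ (congrArg Subtype.val h)
  have hindex : 5 ≤ Y.index := by
    by_contra hlt
    refine not_solvable_GL3 (ZMod q) ?_
    let f := MulAction.toPermHom GL3 (GL3 ⧸ Y)
    have hcard : Nat.card (GL3 ⧸ Y) ≤ 4 := by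
      have : Y.index = Nat.card (GL3 ⧸ Y) := rfl
      omega
    haveI : Group.IsSolvable (Equiv.Perm (GL3 ⧸ Y)) := by
      exact CfsgLib.Recognition.Zassenhaus.perm_solvable _ hcard
    have hkerle : f.ker ≤ Y := by
      intro M hM
      have h2 := DFunLike.congr_fun (MonoidHom.mem_ker.1 hM) ((1 : GL3) : GL3 ⧸ Y)
      change ((M * 1 : GL3) : GL3 ⧸ Y) = ((1 : GL3) : GL3 ⧸ Y) at h2
      rw [mul_one, QuotientGroup.eq, mul_one] at h2
      exact inv_mem_iff.1 h2
    haveI : Group.IsSolvable f.ker :=
      solvable_of_solvable_injective (f := Subgroup.inclusion hkerle) (Subgroup.inclusion_injective _)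
    exact Group.isSolvable_of_ker_le_range f.ker.subtype f (by rw [Subgroup.range_subtype])
  haveI : Fintype (GL3 ⧸ Y) := Fintype.ofFinite _
  obtain ⟨e⟩ : Nonempty (Fin 5 ↪ GL3 ⧸ Y) :=
    Function.Embedding.nonempty_of_card_le (by
      rw [Fintype.card_fin, ← Nat.card_eq_fintype_card]; exact hindex)
  refine ⟨fun i => T (e i).out.1, fun g i j hg => ?_⟩
  set A := (e i).out
  set B := (e j).out
  have hmem : A⁻¹ * B ∈ Y := ⟨g, fun k => by
    rw [Units.val_mul, hTmul]
    simp only [← (show ∀ l, g • T A.1 l = T B.1 l from hg)]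
    conv_lhs => rw [← hT1, ← Units.val_one, ← inv_mul_cancel A, Units.val_mul, hTmul]
    simp only [Finset.smul_sum, hsmulc]⟩
  have hij : i = j := e.injective (by
    rw [← Quotient.out_eq (e i), ← Quotient.out_eq (e j)]
    exact QuotientGroup.eq.2 hmem)
  subst hij
  refine ⟨rfl, ht g fun k => ?_⟩
  have e1 : t k = ∑ l, (A⁻¹ : GL3).1 k l • T A.1 l := by
    rw [← hTmul, ← Units.val_mul, inv_mul_cancel, Units.val_one, hT1]
  rw [e1, Finset.smul_sum]
  exact Finset.sum_congr rfl fun l _ => by rw [hsmulc, hg]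

/-- Reducible modules. -/
theorem hasTriple_of_reducible {G V : Type u} [Group G] [Group.IsSolvable G] [AddCommGroup V]
    [Finite V] [DistribMulAction G V] (IH : TripleBelow.{u} (Nat.card V)) (hcr : IsCR G V)
    (hred : ¬ IsIrred G V) : HasTriple G V := by
  simp only [IsIrred, not_forall, not_or] at hred
  obtain ⟨U, hU, hbot, htop⟩ := hred
  obtain ⟨W, hW, h1, h2⟩ := hcr U hU
  have hWtop : W ≠ ⊤ := by
    rintro rfl
    exact hbot (by simpa using h1)
  have hlt : ∀ X : AddSubgroup V, X ≠ ⊤ → Nat.card X < Nat.card V := fun X hX =>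
    lt_of_le_of_ne (AddSubgroup.card_le_card_addGroup X)
      fun e => hX (AddSubgroup.eq_top_of_card_eq X e)
  obtain ⟨a, ka⟩ := @IH G U _ _ _ _ (subAction U hU) (hlt U htop) (isCR_sub hcr U hU)
  obtain ⟨b, kb⟩ := @IH G W _ _ _ _ (subAction W hW) (hlt W hWtop) (isCR_sub hcr W hW)
  refine ⟨fun i => (a i : V) + b i, fun g hg x => ?_⟩
  have split : ∀ i, g • (a i : V) = a i ∧ g • (b i : V) = b i := by
    intro i
    have h := hg i
    rw [smul_add] at h
    have e : g • (a i : V) - a i = (b i : V) - g • (b i : V) := by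
      rw [sub_eq_sub_iff_add_eq_add, h]; abel
    have h3 : g • (a i : V) - a i = 0 := (AddSubgroup.eq_bot_iff_forall _).1 h1 _
      ⟨U.sub_mem (hU g _ (a i).2) (a i).2, by
        rw [e]; exact W.sub_mem (b i).2 (hW g _ (b i).2)⟩
    have e1 := sub_eq_zero.1 h3
    exact ⟨e1, by rw [e1] at h; exact add_left_cancel h⟩
  have : x ∈ U ⊔ W := by rw [h2]; trivial
  obtain ⟨p, hp, r, hr, rfl⟩ := AddSubgroup.mem_sup.1 this
  rw [smul_add]
  have e1 := congrArg Subtype.val (ka g (fun i => Subtype.ext (split i).1) ⟨p, hp⟩)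
  have e2 := congrArg Subtype.val (kb g (fun i => Subtype.ext (split i).2) ⟨r, hr⟩)
  exact congrArg₂ (· + ·) e1 e2

end CfsgLib.Perm.SolvBase
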