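import Cfsg.Agent.Lib.Perm.SolvBase.FieldCase
import Cfsg.Agent.Lib.Perm.SolvBase.Blocks

/-!
# Completely reducible solvable linear groups have a base of size three
-/

namespace CfsgLib.Perm.SolvBase

universe u

open CfsgLib.Perm.OddBase

theorem hasTriple_step {G V : Type u} [Group G] [Group.IsSolvable G] [AddCommGroup V] [Finite V]
    [DistribMulAction G V] (IH : TripleBelow.{u} (Nat.card V)) (hcr : IsCR G V) :
    HasTriple G V := by
  classical
  by_cases hirr : IsIrred G V
  swap
  · exact hasTriple_of_reducible IH hcr hirr
  rcases subsingleton_or_nontrivial V with hV | hV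
  · exact ⟨fun _ => 0, fun g _ x => Subsingleton.elim _ _⟩
  let φ : G →* (AddMonoid.End V)ˣ := (DistribMulAction.toAddMonoidEnd G V).toHomUnits
  letI : DistribMulAction φ.range V :=
    DistribMulAction.compHom V ((Units.coeHom (AddMonoid.End V)).comp φ.range.subtype)
  haveI : FaithfulSMul φ.range V := ⟨fun {a b} hab =>
    Subtype.ext (Units.ext (AddMonoidHom.ext hab))⟩
  haveI : Finite (AddMonoid.End V) :=
    Finite.of_injective (β := V → V) _ DFunLike.coe_injective
  haveI : Finite φ.range := inferInstance
  haveI : Group.IsSolvable φ.range := solvable_of_surjective φ.rangeRestrict_surjective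
  have hirr' : IsIrred φ.range V := fun U hU => hirr U fun g v hv => hU ⟨φ g, g, rfl⟩ v hv
  have key : HasTriple φ.range V := by
    by_cases hfield : ∀ N : Subgroup φ.range, N.Normal → (∀ a ∈ N, ∀ b ∈ N, a * b = b * a) →
        ∀ r : AddMonoid.End V, r ∈ spanRing N → r ≠ 0 → Function.Injective r
    · exact hasTriple_of_field hfield
    · simp only [not_forall] at hfield
      obtain ⟨N, hN, hab, r, hr, hr0, hri⟩ := hfield
      haveI := hN
      obtain ⟨ι, hι, hact, π, hπ, hidem, horth, hsum, hne, htwo⟩ :=
        exists_blocks_of_not_field hirr' N hab fun hall => hri (hall r hr hr0)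
      letI := hι
      letI := hact
      exact hasTriple_of_blocks IH hirr' π hπ hidem horth hsum hne htwo
  obtain ⟨t, h⟩ := key
  exact ⟨t, fun g hg x => h ⟨φ g, g, rfl⟩ hg x⟩

theorem tripleBelow : ∀ n, TripleBelow.{u} n := by
  intro n
  induction n using Nat.strong_induction_on with
  | _ n ih =>
    intro G V _ _ _ _ _ hlt hcr
    exact hasTriple_step (ih _ hlt) hcr

/-- A completely reducible solvable group of automorphisms has a base of size three. -/
theorem exists_triple (G V : Type u) [Group G] [Group.IsSolvable G] [AddCommGroup V] [Finite V]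
    [DistribMulAction G V] (hcr : IsCR G V) : HasTriple G V :=
  tripleBelow (Nat.card V + 1) G V (Nat.lt_succ_self _) hcr

end CfsgLib.Perm.SolvBase
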